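import Groth.Agent.H70.RelFlatBC.Main

/-!
# Non-vanishing of fibres of a quasi-coherent module and base change (helper70)

For `f : X ⟶ Y`, `F` quasi-coherent on `X` and `x ∈ X`, the condition
`𝔪_{f x} F_x ≠ F_x` ("`F_x ⊗ κ(f x) ≠ 0`") is equivalent to the non-vanishing of the stalk of the
restriction of `F` to the fibre.  It is inherited by a suitable point of any base change.
-/

set_option autoImplicit false
set_option linter.style.haveILetI false

open CategoryTheory Limits AlgebraicGeometry TopologicalSpace Opposite TensorProduct IsLocalRing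
open Groth.Agent.H49.FibreStalk Groth.Agent.H1.FibreCrit Groth.Agent.H70.RelFlatBC

namespace Groth.Agent.H70.FDesc

universe u

section algebra

variable {B C D : Type u} [CommRing B] [CommRing C] [CommRing D] [Algebra B C] [Algebra C D]
  {M : Type u} [AddCommGroup M] [Module C M] [Module B M] [IsScalarTower B C M]

/-- `D = C / I C`: `D ⊗[C] M` vanishes iff `I M = M`. -/
theorem subsingleton_tensor_iff (I : Ideal B) (hs : Function.Surjective (algebraMap C D))
    (hk : RingHom.ker (algebraMap C D) = I.map (algebraMap B C)) :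
    Subsingleton (D ⊗[C] M) ↔ (I • ⊤ : Submodule B M) = ⊤ := by
  have key : ∀ m : M, (1 : D) ⊗ₜ[C] m = 0 ↔ m ∈ (I • ⊤ : Submodule B M) := by
    intro m
    rw [one_tmul_eq_zero_iff hs, hk, ← Submodule.restrictScalars_mem B,
      Ideal.smul_restrictScalars, Submodule.restrictScalars_top]
  constructor
  · intro h
    rw [eq_top_iff]
    intro m _
    exact (key m).mp (Subsingleton.elim _ _)
  · intro h
    refine ⟨fun t₁ t₂ => ?_⟩
    obtain ⟨m₁, rfl⟩ := exists_one_tmul_eq hs t₁
    obtain ⟨m₂, rfl⟩ := exists_one_tmul_eq hs t₂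
    have h₁ : m₁ ∈ (I • ⊤ : Submodule B M) := by rw [h]; exact Submodule.mem_top
    have h₂ : m₂ ∈ (I • ⊤ : Submodule B M) := by rw [h]; exact Submodule.mem_top
    rw [(key m₁).mpr h₁, (key m₂).mpr h₂]

theorem smul_top_ne_top_iff_nontrivial_tensor (I : Ideal B)
    (hs : Function.Surjective (algebraMap C D))
    (hk : RingHom.ker (algebraMap C D) = I.map (algebraMap B C)) :
    (I • ⊤ : Submodule B M) ≠ ⊤ ↔ Nontrivial (D ⊗[C] M) := by
  rw [← not_subsingleton_iff_nontrivial, subsingleton_tensor_iff I hs hk]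

end algebra

variable {X Y : Scheme.{u}}

set_option maxHeartbeats 800000 in
/-- `𝔪_{f x} F_x ≠ F_x` iff the stalk at `x` of the restriction of `F` to the fibre is nonzero. -/
theorem smul_top_ne_top_iff_nontrivial_fiber (f : X ⟶ Y) (y : Y) (F : X.Modules)
    [F.IsQuasicoherent] (x₀ : (f.fiber y : Scheme.{u})) :
    (letI := FlatMod.moduleStalkOver f F (f.fiberι y x₀)
     maximalIdeal (Y.presheaf.stalk (f (f.fiberι y x₀))) •
      (⊤ : Submodule (Y.presheaf.stalk (f (f.fiberι y x₀)))
        (F.presheaf.stalk (f.fiberι y x₀))) ≠ ⊤) ↔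
    Nontrivial (((Scheme.Modules.pullback (f.fiberι y)).obj F).presheaf.stalk x₀) := by
  letI modBM := FlatMod.moduleStalkOver f F (f.fiberι y x₀)
  letI algBC : Algebra (Y.presheaf.stalk (f (f.fiberι y x₀)))
      (X.presheaf.stalk (f.fiberι y x₀)) := (f.stalkMap (f.fiberι y x₀)).hom.toAlgebra
  letI algCD : Algebra (X.presheaf.stalk (f.fiberι y x₀))
      ((f.fiber y).presheaf.stalk x₀) := ((f.fiberι y).stalkMap x₀).hom.toAlgebra
  haveI : IsScalarTower (Y.presheaf.stalk (f (f.fiberι y x₀)))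
      (X.presheaf.stalk (f.fiberι y x₀)) (F.presheaf.stalk (f.fiberι y x₀)) :=
    IsScalarTower.of_algebraMap_smul (fun r m => rfl)
  have hs : Function.Surjective (algebraMap (X.presheaf.stalk (f.fiberι y x₀))
      ((f.fiber y).presheaf.stalk x₀)) := (f.fiberι y).stalkMap_surjective x₀
  have hk : RingHom.ker (algebraMap (X.presheaf.stalk (f.fiberι y x₀))
      ((f.fiber y).presheaf.stalk x₀)) =
      (maximalIdeal (Y.presheaf.stalk (f (f.fiberι y x₀)))).map
        (algebraMap (Y.presheaf.stalk (f (f.fiberι y x₀)))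
          (X.presheaf.stalk (f.fiberι y x₀))) := ker_stalkMap_fiberι f y x₀
  obtain ⟨e⟩ := Groth.Agent.H71.QCoh.exists_stalkPullbackEquiv (f.fiberι y) F x₀
  rw [smul_top_ne_top_iff_nontrivial_tensor _ hs hk]
  exact ⟨fun h => e.symm.toEquiv.nontrivial, fun h => e.toEquiv.nontrivial⟩

set_option maxHeartbeats 800000 in
/-- non-vanishing of the stalk ascends along a morphism whose stalk map is flat -/
theorem nontrivial_stalk_pullback_of_flat {X₁ X₀ : Scheme.{u}} (α : X₁ ⟶ X₀) (G : X₀.Modules)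
    [G.IsQuasicoherent] (x₁ : X₁) (hfl : (α.stalkMap x₁).hom.Flat)
    [Nontrivial (G.presheaf.stalk (α x₁))] :
    Nontrivial (((Scheme.Modules.pullback α).obj G).presheaf.stalk x₁) := by
  letI alg : Algebra (X₀.presheaf.stalk (α x₁)) (X₁.presheaf.stalk x₁) :=
    (α.stalkMap x₁).hom.toAlgebra
  haveI : Module.Flat (X₀.presheaf.stalk (α x₁)) (X₁.presheaf.stalk x₁) := hfl
  haveI : IsLocalHom (algebraMap (X₀.presheaf.stalk (α x₁)) (X₁.presheaf.stalk x₁)) :=
    inferInstanceAs (IsLocalHom (α.stalkMap x₁).hom)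
  haveI : Module.FaithfullyFlat (X₀.presheaf.stalk (α x₁)) (X₁.presheaf.stalk x₁) :=
    Module.FaithfullyFlat.of_flat_of_isLocalHom
  obtain ⟨e⟩ := Groth.Agent.H71.QCoh.exists_stalkPullbackEquiv α G x₁
  exact e.symm.toEquiv.nontrivial

end Groth.Agent.H70.FDesc
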