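import Mathlib

/-!
# Going-down for flat modules (helper70)

`A → R` rings, `N` an `R`-module which is flat over `A`, `p'` a prime of `A` with `p' N ≠ N`.
Then some prime `Q` of `R` in the support of `N` contracts to `p'`.
-/

set_option autoImplicit false
set_option linter.style.haveILetI false

open TensorProduct Function

namespace Groth.Agent.H70.FDesc

universe u

variable {A R N : Type u} [CommRing A] [CommRing R] [Algebra A R] [AddCommGroup N] [Module A N]
  [Module R N] [IsScalarTower A R N]

set_option maxHeartbeats 800000 in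
theorem exists_prime_mem_support_comap_eq [Module.Flat A N] (p' : Ideal A) [p'.IsPrime]
    (h : (p' • ⊤ : Submodule A N) ≠ ⊤) :
    ∃ Q : PrimeSpectrum R, Q ∈ Module.support R N ∧ Q.asIdeal.comap (algebraMap A R) = p' := by
  haveI : Nontrivial (N ⊗[A] (A ⧸ p')) := by
    haveI : Nontrivial (N ⧸ (p' • ⊤ : Submodule A N)) := Submodule.Quotient.nontrivial_iff.mpr h
    exact (TensorProduct.tensorQuotEquivQuotSMul N p').toEquiv.nontrivial
  obtain ⟨w, hw⟩ := exists_ne (0 : N ⊗[A] (A ⧸ p'))
  -- elements outside `p'` act injectively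
  have hreg : ∀ s : A, s ∉ p' → ∀ t : N ⊗[A] (A ⧸ p'), s • t = 0 → t = 0 := by
    intro s hs t ht
    let μ : (A ⧸ p') →ₗ[A] (A ⧸ p') := LinearMap.lsmul A (A ⧸ p') s
    have hμ : Function.Injective μ := by
      rw [injective_iff_map_eq_zero]
      intro a ha
      obtain ⟨a, rfl⟩ := Ideal.Quotient.mk_surjective a
      have h1 : Ideal.Quotient.mk p' (s * a) = 0 := ha
      rw [Ideal.Quotient.eq_zero_iff_mem] at h1 ⊢
      exact (Ideal.IsPrime.mem_or_mem inferInstance h1).resolve_left hs
    have hinj := Module.Flat.lTensor_preserves_injective_linearMap (M := N) μ hμ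
    have hμt : ∀ t : N ⊗[A] (A ⧸ p'), μ.lTensor N t = s • t := by
      intro t
      induction t using TensorProduct.induction_on with
      | zero => simp
      | tmul n a =>
        rw [LinearMap.lTensor_tmul, TensorProduct.smul_tmul', TensorProduct.smul_tmul]
        rfl
      | add a b ha hb => rw [map_add, ha, hb, smul_add]
    apply hinj
    rw [hμt, ht, map_zero]
  -- `p'` kills the tensor product
  have hkill : ∀ a ∈ p', ∀ t : N ⊗[A] (A ⧸ p'), a • t = 0 := by
    intro a ha t
    induction t using TensorProduct.induction_on with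
    | zero => simp
    | tmul n b =>
      obtain ⟨b, rfl⟩ := Ideal.Quotient.mk_surjective b
      rw [TensorProduct.smul_tmul', TensorProduct.smul_tmul]
      have : a • (Ideal.Quotient.mk p' b) = 0 := by
        change Ideal.Quotient.mk p' (a * b) = 0
        rw [Ideal.Quotient.eq_zero_iff_mem]
        exact Ideal.mul_mem_right _ _ ha
      rw [this, TensorProduct.tmul_zero]
    | add a' b' ha' hb' => rw [smul_add, ha', hb', add_zero]
  -- the annihilator of `w`
  let J : Ideal R := LinearMap.ker (LinearMap.toSpanSingleton R (N ⊗[A] (A ⧸ p')) w)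
  have hJ : ∀ r : R, r ∈ J ↔ r • w = 0 := fun r => by
    rw [LinearMap.mem_ker, LinearMap.toSpanSingleton_apply]
  let S : Submonoid R := (p'.primeCompl).map (algebraMap A R)
  have hdisj : Disjoint (J : Set R) (S : Set R) := by
    rw [Set.disjoint_left]
    rintro r hrJ ⟨s, hs, rfl⟩
    have h1 : (algebraMap A R s) • w = 0 := (hJ _).mp hrJ
    rw [algebraMap_smul] at h1
    exact hw (hreg s hs w h1)
  obtain ⟨Q, hQ, hJQ, hQS⟩ := Ideal.exists_le_prime_disjoint J S hdisj
  refine ⟨⟨Q, hQ⟩, ?_, ?_⟩
  · -- support
    let π : N →ₗ[R] N ⊗[A] (A ⧸ p') :=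
      { toFun := fun n => n ⊗ₜ[A] (1 : A ⧸ p')
        map_add' := fun a b => TensorProduct.add_tmul a b 1
        map_smul' := fun r n => rfl }
    have hπ : Function.Surjective π := by
      intro t
      induction t using TensorProduct.induction_on with
      | zero => exact ⟨0, map_zero π⟩
      | tmul n b =>
        obtain ⟨b, rfl⟩ := Ideal.Quotient.mk_surjective b
        refine ⟨b • n, ?_⟩
        change (b • n) ⊗ₜ[A] (1 : A ⧸ p') = n ⊗ₜ[A] (Ideal.Quotient.mk p' b)
        rw [TensorProduct.smul_tmul]
        congr 1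
        change Ideal.Quotient.mk p' (b * 1) = _
        rw [mul_one]
      | add a b ha hb =>
        obtain ⟨a', rfl⟩ := ha
        obtain ⟨b', rfl⟩ := hb
        exact ⟨a' + b', map_add π a' b'⟩
    apply Module.support_subset_of_surjective π hπ
    rw [Module.mem_support_iff']
    exact ⟨w, fun r hr h0 => hr (hJQ ((hJ r).mpr h0))⟩
  · ext a
    rw [Ideal.mem_comap]
    constructor
    · intro ha
      by_contra hap
      exact Set.disjoint_left.mp hQS ha ⟨a, hap, rfl⟩
    · intro ha
      apply hJQ
      rw [hJ, algebraMap_smul]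
      exact hkill a ha w

end Groth.Agent.H70.FDesc
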