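import Groth.Agent.H70.FDesc.GoingDown
import Groth.Agent.H47.QCohSupport
import Groth.Agent.H13.QuasiFlat

/-!
# Going-down for flat quasi-coherent modules of finite type (helper70)

`f : X ⟶ Y`, `F` quasi-coherent of finite type on `X`, flat over `Y` at a point `x` of its support.
Every generization `w` of `f x` is the image of a generization `z` of `x` in the support of `F`.
-/

set_option autoImplicit false
set_option linter.style.haveILetI false

open CategoryTheory Limits AlgebraicGeometry TopologicalSpace Opposite TensorProduct IsLocalRing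

namespace Groth.Agent.H70.FDesc

universe u

variable {X Y : Scheme.{u}}

theorem primeIdealOf_fromSpec {U : X.Opens} (hU : IsAffineOpen U) (q : PrimeSpectrum Γ(X, U))
    (hz : hU.fromSpec q ∈ U) : hU.primeIdealOf ⟨hU.fromSpec q, hz⟩ = q := by
  apply hU.fromSpec.isOpenEmbedding.injective
  exact hU.fromSpec_primeIdealOf ⟨hU.fromSpec q, hz⟩

set_option maxHeartbeats 800000 in
/-- a prime `Q` of `O_{X,x}` in the support of the stalk `F_x` gives a point of the support
of `F` -/
theorem fromSpecStalk_mem_support (F : X.Modules) [F.IsQuasicoherent] (x : X)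
    (Q : PrimeSpectrum (X.presheaf.stalk x))
    (hQ : Q ∈ Module.support (X.presheaf.stalk x) (F.presheaf.stalk x)) :
    (X.fromSpecStalk x) Q ∈ CohB1.support F := by
  obtain ⟨U, hU, hxU⟩ : ∃ U : X.Opens, IsAffineOpen U ∧ x ∈ U := by
    obtain ⟨_, ⟨U, hU, rfl⟩, hxU, -⟩ :=
      X.isBasis_affineOpens.exists_subset_of_mem_open (Set.mem_univ x) isOpen_univ
    exact ⟨U, hU, hxU⟩
  letI := Groth.Agent.H8.stalkModule F hxU
  haveI := Groth.Agent.H8.isLocalizedModule_germₗ F hU hxU
  rw [Module.mem_support_iff'] at hQ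
  obtain ⟨m, hm⟩ := hQ
  obtain ⟨⟨n, s⟩, hns⟩ := IsLocalizedModule.surj (hU.primeIdealOf ⟨x, hxU⟩).asIdeal.primeCompl
    (Groth.Agent.H8.germₗ F hxU) m
  let q' : PrimeSpectrum Γ(X, U) := PrimeSpectrum.comap (X.presheaf.germ U x hxU).hom Q
  have hs : IsUnit (X.presheaf.germ U x hxU (s : Γ(X, U))) := by
    by_contra h
    exact s.2 ((Groth.Agent.H8.mem_primeIdealOf_iff hU hxU _).mpr h)
  have hq' : q' ∈ Module.support Γ(X, U) Γ(F, U) := by
    rw [Module.mem_support_iff']
    refine ⟨n, fun b hb h0 => hb ?_⟩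
    change (X.presheaf.germ U x hxU).hom b ∈ Q.asIdeal
    by_contra hbQ
    have h1 : (X.presheaf.germ U x hxU).hom b * (X.presheaf.germ U x hxU).hom (s : Γ(X, U)) ∉
        Q.asIdeal := by
      intro h
      rcases Q.isPrime.mem_or_mem h with h | h
      · exact hbQ h
      · exact Q.isPrime.ne_top (Ideal.eq_top_of_isUnit_mem _ h hs)
    apply hm _ h1
    rw [mul_smul]
    change b • ((s : Γ(X, U)) • m) = 0
    have hns' : (s : Γ(X, U)) • m = Groth.Agent.H8.germₗ F hxU n := hns
    rw [hns', ← map_smul, h0, map_zero]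
  have hz : hU.fromSpec q' ∈ U := by
    have : hU.fromSpec q' ∈ Set.range hU.fromSpec := ⟨q', rfl⟩
    rw [hU.range_fromSpec] at this
    exact this
  have h2 := (Groth.Agent.H47.QCohSupport.mem_support_iff X F hU (hU.fromSpec q') hz).mp
    (by rw [primeIdealOf_fromSpec hU q' hz]; exact hq')
  have h3 : (X.fromSpecStalk x) Q = hU.fromSpec q' := by
    rw [← hU.fromSpecStalk_eq_fromSpecStalk hxU]
    rfl
  rw [h3]
  exact h2

set_option maxHeartbeats 800000 in
/-- going-down for a flat quasi-coherent module of finite type -/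
theorem exists_generization_mem_support (f : X ⟶ Y) (F : X.Modules) (hF : Coh.IsCoh F) (x : X)
    (hfl : FlatMod.IsFlatOverAt f F x) (hx : x ∈ CohB1.support F) (w : Y) (hw : w ⤳ f x) :
    ∃ z : X, z ⤳ x ∧ z ∈ CohB1.support F ∧ f z = w := by
  haveI : F.IsQuasicoherent := hF.1
  have hw' : ∃ P : PrimeSpectrum (Y.presheaf.stalk (f x)), (Y.fromSpecStalk (f x)) P = w := by
    have : w ∈ Set.range (Y.fromSpecStalk (f x)) := by
      rw [Scheme.range_fromSpecStalk]; exact hw
    exact this
  obtain ⟨P, rfl⟩ := hw'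
  letI alg : Algebra (Y.presheaf.stalk (f x)) (X.presheaf.stalk x) := (f.stalkMap x).hom.toAlgebra
  haveI : IsLocalHom (algebraMap (Y.presheaf.stalk (f x)) (X.presheaf.stalk x)) :=
    inferInstanceAs (IsLocalHom (f.stalkMap x).hom)
  letI modA := FlatMod.moduleStalkOver f F x
  haveI : IsScalarTower (Y.presheaf.stalk (f x)) (X.presheaf.stalk x) (F.presheaf.stalk x) :=
    .of_algebraMap_smul fun _ _ => rfl
  haveI := Groth.Agent.H13.finite_stalk_of_isCoh F hF x
  haveI : Nontrivial (F.presheaf.stalk x) := not_subsingleton_iff_nontrivial.mp hx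
  haveI : Module.Flat (Y.presheaf.stalk (f x)) (F.presheaf.stalk x) := hfl
  haveI : Module.FaithfullyFlat (Y.presheaf.stalk (f x)) (F.presheaf.stalk x) :=
    Groth.Agent.H13.faithfullyFlat_of_flat_of_finite_of_isLocalHom (X.presheaf.stalk x)
  -- `p' F_x ≠ F_x`
  have hne : (P.asIdeal •
      (⊤ : Submodule (Y.presheaf.stalk (f x)) (F.presheaf.stalk x))) ≠ ⊤ := by
    intro h
    have hle : P.asIdeal ≤
        maximalIdeal (Y.presheaf.stalk (f x)) := IsLocalRing.le_maximalIdeal
      P.isPrime.ne_top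
    have h1 : (maximalIdeal (Y.presheaf.stalk (f x)) •
        (⊤ : Submodule (Y.presheaf.stalk (f x)) (F.presheaf.stalk x))) = ⊤ :=
      top_le_iff.mp (h.symm.le.trans (Submodule.smul_mono_left hle))
    exact Module.FaithfullyFlat.submodule_ne_top (maximalIdeal.isMaximal _) h1
  obtain ⟨Q, hQs, hQc⟩ := exists_prime_mem_support_comap_eq (R := X.presheaf.stalk x)
    (N := F.presheaf.stalk x) P.asIdeal hne
  refine ⟨(X.fromSpecStalk x) Q, ?_, fromSpecStalk_mem_support F x Q hQs, ?_⟩
  · have : (X.fromSpecStalk x) Q ∈ Set.range (X.fromSpecStalk x) := ⟨Q, rfl⟩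
    rw [Scheme.range_fromSpecStalk] at this
    exact this
  · have h1 := Scheme.SpecMap_stalkMap_fromSpecStalk f (x := x)
    have h2 := congrArg (fun g => g.base Q) h1
    have h3 : (Spec.map (f.stalkMap x)) Q = P := by
      apply PrimeSpectrum.ext
      exact hQc
    have h4 : f ((X.fromSpecStalk x) Q) = (Y.fromSpecStalk (f x)) ((Spec.map (f.stalkMap x)) Q) :=
      h2.symm
    rw [h4, h3]

end Groth.Agent.H70.FDesc
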