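import Groth.Agent.H70.FDesc.Fibre

/-!
# Points of a base change with non-vanishing fibre (helper70)
-/

set_option autoImplicit false
set_option linter.style.haveILetI false

open CategoryTheory Limits AlgebraicGeometry TopologicalSpace Opposite TensorProduct IsLocalRing
open Groth.Agent.H49.FibreStalk Groth.Agent.H1.FibreCrit Groth.Agent.H70.RelFlatBC

namespace Groth.Agent.H70.FDesc

universe u

variable {X Y X' Y' : Scheme.{u}} {p : X' ⟶ X} {q : X' ⟶ Y'} {f : X ⟶ Y} {g : Y' ⟶ Y}

set_option maxHeartbeats 1600000 in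
/-- In a cartesian square `X' = X ×_Y Y'`, if `F_x ⊗ κ(f x) ≠ 0` and `f x = g y'`, there is a point
`x'` of `X'` over `x` and `y'` with `(p^* F)_{x'} ⊗ κ(y') ≠ 0`. -/
theorem exists_point_nonvanishing (hc : IsPullback p q f g) (F : X.Modules) [F.IsQuasicoherent]
    (y' : Y') (x : X) (hx : f x = g y')
    (hne : letI := FlatMod.moduleStalkOver f F x
      maximalIdeal (Y.presheaf.stalk (f x)) •
        (⊤ : Submodule (Y.presheaf.stalk (f x)) (F.presheaf.stalk x)) ≠ ⊤) :
    ∃ x' : X', q x' = y' ∧ p x' = x ∧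
      (letI := FlatMod.moduleStalkOver q ((Scheme.Modules.pullback p).obj F) x'
      maximalIdeal (Y'.presheaf.stalk (q x')) •
        (⊤ : Submodule (Y'.presheaf.stalk (q x'))
          (((Scheme.Modules.pullback p).obj F).presheaf.stalk x')) ≠ ⊤) := by
  obtain ⟨x₀, rfl⟩ : x ∈ Set.range (f.fiberι (g y')) := by
    rw [Scheme.Hom.range_fiberι]; exact hx
  haveI hnt : Nontrivial (((Scheme.Modules.pullback (f.fiberι (g y'))).obj F).presheaf.stalk x₀) :=
    (smul_top_ne_top_iff_nontrivial_fiber f (g y') F x₀).mp hne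
  let ρ : Spec (Y'.residueField y') ⟶ Spec (Y.residueField (g y')) :=
    Spec.map (g.residueFieldMap y')
  let α : (q.fiber y' : Scheme.{u}) ⟶ (f.fiber (g y') : Scheme.{u}) :=
    pullback.map _ _ _ _ p ρ g hc.w.symm (by simp [ρ])
  have hαsq : IsPullback α (q.fiberToSpecResidueField y')
      (f.fiberToSpecResidueField (g y')) ρ :=
    isPullback_fiberToSpecResidueField_of_isPullback hc y'
  have hαι : α ≫ f.fiberι (g y') = q.fiberι y' ≫ p := pullback.lift_fst _ _ _
  haveI : Flat ρ := inferInstance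
  haveI : Surjective ρ := by
    refine ⟨fun z => ⟨Classical.arbitrary _, ?_⟩⟩
    haveI : Subsingleton (PrimeSpectrum (Y.residueField (g y'))) := inferInstance
    exact Subsingleton.elim (α := PrimeSpectrum (Y.residueField (g y'))) _ _
  haveI : Flat α := MorphismProperty.of_isPullback (P := @Flat) hαsq.flip inferInstance
  haveI : Surjective α := MorphismProperty.of_isPullback (P := @Surjective) hαsq.flip inferInstance
  obtain ⟨x₁, rfl⟩ := α.surjective x₀
  haveI h1 : Nontrivial (((Scheme.Modules.pullback α).obj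
      ((Scheme.Modules.pullback (f.fiberι (g y'))).obj F)).presheaf.stalk x₁) :=
    nontrivial_stalk_pullback_of_flat α _ x₁ (Flat.stalkMap α x₁)
  let iso : (Scheme.Modules.pullback α).obj
      ((Scheme.Modules.pullback (f.fiberι (g y'))).obj F) ≅
      (Scheme.Modules.pullback (q.fiberι y')).obj
        ((Scheme.Modules.pullback p).obj F) :=
    (Scheme.Modules.pullbackComp α (f.fiberι (g y'))).app F ≪≫
      (Scheme.Modules.pullbackCongr hαι).app F ≪≫
      ((Scheme.Modules.pullbackComp (q.fiberι y') p).app F).symm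
  have h2 : Nontrivial (((Scheme.Modules.pullback (q.fiberι y')).obj
      ((Scheme.Modules.pullback p).obj F)).presheaf.stalk x₁) :=
    (stalkEquivOfIso iso x₁).symm.toEquiv.nontrivial
  refine ⟨q.fiberι y' x₁, ?_, ?_, ?_⟩
  · exact (q.range_fiberι y').le ⟨x₁, rfl⟩
  · rw [← Scheme.Hom.comp_apply, ← hαι, Scheme.Hom.comp_apply]
  · exact (smul_top_ne_top_iff_nontrivial_fiber q y' _ x₁).mpr h2

end Groth.Agent.H70.FDesc
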