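import Mathlib

/-!
# Flatness and non-vanishing for `P ⊗[B] N` over a base `A` (helper70)

`A → B → C` rings, `P` a `C`-module flat over `B`, `N` a `B`-module.  Then `P ⊗[B] N` is flat over
`A` when `N` is; conversely when `P` is faithfully flat over `B`.  Similarly for the non-vanishing
of the fibre `- ⊗ A/I`.
-/

set_option autoImplicit false
set_option linter.style.haveILetI false

open TensorProduct Function

namespace Groth.Agent.H70.FDesc

universe u

section tower

variable {R S P M : Type u} [CommRing R] [CommRing S] [Algebra R S]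
  [AddCommGroup P] [Module R P] [Module S P] [IsScalarTower R S P]
  [AddCommGroup M] [Module R M] [Module S M] [IsScalarTower R S M]

theorem tower_sq {N' N : Type u} [AddCommGroup N'] [Module R N'] [AddCommGroup N] [Module R N]
    (f : N' →ₗ[R] N) (w : (P ⊗[S] M) ⊗[R] N') :
    TensorProduct.AlgebraTensorModule.assoc R S S P M N (LinearMap.lTensor (P ⊗[S] M) f w) =
      LinearMap.lTensor P (TensorProduct.AlgebraTensorModule.lTensor S M f)
        (TensorProduct.AlgebraTensorModule.assoc R S S P M N' w) := by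
  induction w using TensorProduct.induction_on with
  | zero => simp
  | tmul v n =>
    induction v using TensorProduct.induction_on with
    | zero => simp
    | tmul s m => rfl
    | add a b ha hb =>
      rw [TensorProduct.add_tmul, map_add, map_add, ha, hb, map_add, map_add]
  | add a b ha hb => rw [map_add, map_add, ha, hb, map_add, map_add]

/-- `P` flat over `S`, `M` flat over `R` ⇒ `P ⊗[S] M` flat over `R`. -/
theorem flat_tensor_tower_module [Module.Flat R M] [Module.Flat S P] :
    Module.Flat R (P ⊗[S] M) := by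
  rw [Module.Flat.iff_lTensor_preserves_injective_linearMap]
  intro N' N _ _ _ _ f hf
  have h1 : Function.Injective (TensorProduct.AlgebraTensorModule.lTensor S M f) :=
    Module.Flat.lTensor_preserves_injective_linearMap (M := M) f hf
  have h2 : Function.Injective
      (LinearMap.lTensor P (TensorProduct.AlgebraTensorModule.lTensor S M f)) :=
    Module.Flat.lTensor_preserves_injective_linearMap _ h1
  intro a b hab
  have := congrArg (TensorProduct.AlgebraTensorModule.assoc R S S P M N) hab
  rw [tower_sq, tower_sq] at this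
  exact (TensorProduct.AlgebraTensorModule.assoc R S S P M N').injective (h2 this)

/-- `P` faithfully flat over `S`, `P ⊗[S] M` flat over `R` ⇒ `M` flat over `R`. -/
theorem flat_of_flat_tensor_tower_module [Module.FaithfullyFlat S P]
    [Module.Flat R (P ⊗[S] M)] : Module.Flat R M := by
  rw [Module.Flat.iff_lTensor_preserves_injective_linearMap]
  intro N' N _ _ _ _ f hf
  have h0 : Function.Injective (LinearMap.lTensor (P ⊗[S] M) f) :=
    Module.Flat.lTensor_preserves_injective_linearMap _ hf
  have h2 : Function.Injective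
      (LinearMap.lTensor P (TensorProduct.AlgebraTensorModule.lTensor S M f)) := by
    intro a b hab
    obtain ⟨a', rfl⟩ := (TensorProduct.AlgebraTensorModule.assoc R S S P M N').surjective a
    obtain ⟨b', rfl⟩ := (TensorProduct.AlgebraTensorModule.assoc R S S P M N').surjective b
    rw [← tower_sq, ← tower_sq] at hab
    have := h0 ((TensorProduct.AlgebraTensorModule.assoc R S S P M N).injective hab)
    rw [this]
  have h1 : Function.Injective (TensorProduct.AlgebraTensorModule.lTensor S M f) :=
    (Module.FaithfullyFlat.lTensor_injective_iff_injective S P _).1 h2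
  exact h1

end tower

section localRing

variable {S P : Type u} [CommRing S] [IsLocalRing S] [AddCommGroup P] [Module S P]

/-- over a local ring: flat and `𝔪 P ≠ P` ⇒ faithfully flat -/
theorem faithfullyFlat_of_isLocalRing [Module.Flat S P]
    (h : (IsLocalRing.maximalIdeal S • ⊤ : Submodule S P) ≠ ⊤) : Module.FaithfullyFlat S P :=
  ⟨fun m hm => by rw [IsLocalRing.eq_maximalIdeal hm]; exact h⟩

end localRing

section nonvanish

variable {A B : Type u} [CommRing A] [CommRing B] [Algebra A B]

theorem smul_top_eq_top_iff_map (I : Ideal A) (W : Type u) [AddCommGroup W] [Module A W]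
    [Module B W] [IsScalarTower A B W] :
    (I • ⊤ : Submodule A W) = ⊤ ↔ (I.map (algebraMap A B) • ⊤ : Submodule B W) = ⊤ := by
  rw [← Submodule.restrictScalars_eq_top_iff A B, Ideal.smul_restrictScalars,
    Submodule.restrictScalars_top]

theorem smul_top_eq_top_iff_of_linearEquiv (I : Ideal A) {W W' : Type u} [AddCommGroup W]
    [Module A W] [AddCommGroup W'] [Module A W'] (e : W ≃ₗ[A] W') :
    (I • ⊤ : Submodule A W) = ⊤ ↔ (I • ⊤ : Submodule A W') = ⊤ := by
  have key : ∀ {V V' : Type u} [AddCommGroup V] [Module A V] [AddCommGroup V'] [Module A V']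
      (e : V ≃ₗ[A] V'), (I • ⊤ : Submodule A V) = ⊤ → (I • ⊤ : Submodule A V') = ⊤ := by
    intro V V' _ _ _ _ e h
    have h1 : Submodule.map e.toLinearMap (I • ⊤ : Submodule A V) = I • ⊤ := by
      rw [Submodule.map_smul'', Submodule.map_top, LinearMap.range_eq_top.mpr e.surjective]
    rw [← h1, h, Submodule.map_top, LinearMap.range_eq_top.mpr e.surjective]
  exact ⟨key e, key e.symm⟩

theorem smul_top_ne_top_iff_nontrivial_quot (J : Ideal B) (W : Type u) [AddCommGroup W]
    [Module B W] : (J • ⊤ : Submodule B W) ≠ ⊤ ↔ Nontrivial ((B ⧸ J) ⊗[B] W) := by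
  rw [← Submodule.Quotient.nontrivial_iff]
  exact ⟨fun h => (quotTensorEquivQuotSMul W J).toEquiv.nontrivial,
    fun h => (quotTensorEquivQuotSMul W J).symm.toEquiv.nontrivial⟩

theorem nontrivial_of_nontrivial_tensor (P X : Type u) [AddCommGroup P] [Module B P]
    [AddCommGroup X] [Module B X] [h : Nontrivial (P ⊗[B] X)] : Nontrivial X := by
  by_contra hX
  rw [not_nontrivial_iff_subsingleton] at hX
  rw [← not_subsingleton_iff_nontrivial] at h
  apply h
  refine ⟨fun a b => ?_⟩
  have hz : ∀ t : P ⊗[B] X, t = 0 := by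
    intro t
    induction t using TensorProduct.induction_on with
    | zero => rfl
    | tmul p x => rw [Subsingleton.elim x 0, TensorProduct.tmul_zero]
    | add a b ha hb => rw [ha, hb, add_zero]
  rw [hz a, hz b]

/-- non-vanishing of `(P ⊗ N) / J (P ⊗ N)` implies that of `N / J N` -/
theorem smul_top_ne_top_of_tensor (J : Ideal B) (P N : Type u) [AddCommGroup P] [Module B P]
    [AddCommGroup N] [Module B N] (h : (J • ⊤ : Submodule B (P ⊗[B] N)) ≠ ⊤) :
    (J • ⊤ : Submodule B N) ≠ ⊤ := by
  rw [smul_top_ne_top_iff_nontrivial_quot] at h ⊢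
  haveI : Nontrivial (P ⊗[B] ((B ⧸ J) ⊗[B] N)) :=
    (TensorProduct.leftComm B (B ⧸ J) P N).symm.toEquiv.nontrivial
  exact nontrivial_of_nontrivial_tensor (B := B) P ((B ⧸ J) ⊗[B] N)

/-- for `P` faithfully flat, non-vanishing of `N / J N` implies that of `(P ⊗ N) / J (P ⊗ N)` -/
theorem smul_top_ne_top_tensor (J : Ideal B) (P N : Type u) [AddCommGroup P] [Module B P]
    [AddCommGroup N] [Module B N] [Module.FaithfullyFlat B P]
    (h : (J • ⊤ : Submodule B N) ≠ ⊤) : (J • ⊤ : Submodule B (P ⊗[B] N)) ≠ ⊤ := by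
  rw [smul_top_ne_top_iff_nontrivial_quot] at h ⊢
  haveI := h
  haveI : Nontrivial (P ⊗[B] ((B ⧸ J) ⊗[B] N)) := Module.FaithfullyFlat.lTensor_nontrivial B P _
  exact (TensorProduct.leftComm B (B ⧸ J) P N).toEquiv.nontrivial

end nonvanish

section assemble

variable {A B C : Type u} [CommRing A] [CommRing B] [CommRing C] [Algebra A B] [Algebra B C]
  [Algebra A C] [IsScalarTower A B C]
  {P N Q T : Type u} [AddCommGroup P] [Module C P] [Module B P] [Module A P]
  [IsScalarTower B C P] [IsScalarTower A B P] [IsScalarTower A C P]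
  [AddCommGroup N] [Module B N] [Module A N] [IsScalarTower A B N]
  [AddCommGroup Q] [Module C Q]
  [AddCommGroup T] [Module C T] [Module A T] [IsScalarTower A C T]

/-- `T ≃ P ⊗[C] Q`, `Q ≃ C ⊗[B] N` ⇒ `T ≃ P ⊗[B] N` -/
noncomputable def tensorEquiv (eQ : C ⊗[B] N ≃ₗ[C] Q) (eT : T ≃ₗ[C] P ⊗[C] Q) :
    T ≃ₗ[A] P ⊗[B] N :=
  (eT ≪≫ₗ TensorProduct.congr (LinearEquiv.refl C P) eQ.symm ≪≫ₗ
    TensorProduct.AlgebraTensorModule.cancelBaseChange B C C P N).restrictScalars A

theorem flat_of_tensorEquiv (e : T ≃ₗ[A] P ⊗[B] N) [Module.Flat B P] [Module.Flat A N] :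
    Module.Flat A T := by
  haveI : Module.Flat A (P ⊗[B] N) := flat_tensor_tower_module
  exact Module.Flat.of_linearEquiv e

theorem flat_right_of_tensorEquiv (e : T ≃ₗ[A] P ⊗[B] N) [Module.FaithfullyFlat B P]
    [Module.Flat A T] : Module.Flat A N := by
  haveI : Module.Flat A (P ⊗[B] N) := Module.Flat.of_linearEquiv e.symm
  exact flat_of_flat_tensor_tower_module (S := B) (P := P)

theorem smul_top_ne_top_right_of_tensorEquiv (e : T ≃ₗ[A] P ⊗[B] N) (I : Ideal A)
    (h : (I • ⊤ : Submodule A T) ≠ ⊤) : (I • ⊤ : Submodule A N) ≠ ⊤ := by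
  rw [Ne, smul_top_eq_top_iff_of_linearEquiv I e, smul_top_eq_top_iff_map (B := B)] at h
  rw [Ne, smul_top_eq_top_iff_map (B := B)]
  exact smul_top_ne_top_of_tensor _ P N h

theorem smul_top_ne_top_of_tensorEquiv (e : T ≃ₗ[A] P ⊗[B] N) [Module.FaithfullyFlat B P]
    (I : Ideal A) (h : (I • ⊤ : Submodule A N) ≠ ⊤) : (I • ⊤ : Submodule A T) ≠ ⊤ := by
  rw [Ne, smul_top_eq_top_iff_map (B := B)] at h
  rw [Ne, smul_top_eq_top_iff_of_linearEquiv I e, smul_top_eq_top_iff_map (B := B)]
  exact smul_top_ne_top_tensor _ P N h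

end assemble

end Groth.Agent.H70.FDesc
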