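import Groth.Agent.H70.FDesc.TensorAlg
import Groth.Agent.H5.Stalk.Tensor
import Groth.Agent.H71.QCoh.StalkPullback

/-!
# The stalk of `E₁ ⊗ q^* G'` over a base `Z` (helper70)

`q : X' ⟶ Y'`, `h : Y' ⟶ Z`, `E₁` an `O_{X'}`-module, `G'` quasi-coherent on `Y'`, `x' ∈ X'`.
The stalk of `E₁ ⊗ q^* G'` at `x'` is `E₁_{x'} ⊗_{O_{Y',q x'}} G'_{q x'}`; consequences for
flatness over `Z` and for the non-vanishing of the fibre over `Z`.
-/

set_option autoImplicit false
set_option linter.style.haveILetI false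

open CategoryTheory Limits AlgebraicGeometry TopologicalSpace Opposite TensorProduct IsLocalRing

namespace Groth.Agent.H70.FDesc

universe u

variable {X' Y' Z : Scheme.{u}} (q : X' ⟶ Y') (h : Y' ⟶ Z) (E₁ : X'.Modules) (G' : Y'.Modules)
  [G'.IsQuasicoherent] (x' : X')

set_option maxHeartbeats 1600000 in
theorem tensor_pullback_stalk_facts :
    (FlatMod.IsFlatOverAt q E₁ x' → FlatMod.IsFlatOverAt h G' (q x') →
      FlatMod.IsFlatOverAt (q ≫ h)
        (CohB1.tensorMod E₁ ((Scheme.Modules.pullback q).obj G')) x') ∧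
    (FlatMod.IsFlatOverAt q E₁ x' →
      (letI := FlatMod.moduleStalkOver q E₁ x'
       maximalIdeal (Y'.presheaf.stalk (q x')) •
        (⊤ : Submodule (Y'.presheaf.stalk (q x')) (E₁.presheaf.stalk x')) ≠ ⊤) →
      FlatMod.IsFlatOverAt (q ≫ h)
        (CohB1.tensorMod E₁ ((Scheme.Modules.pullback q).obj G')) x' →
      FlatMod.IsFlatOverAt h G' (q x')) ∧
    (FlatMod.IsFlatOverAt q E₁ x' →
      (letI := FlatMod.moduleStalkOver q E₁ x'
       maximalIdeal (Y'.presheaf.stalk (q x')) •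
        (⊤ : Submodule (Y'.presheaf.stalk (q x')) (E₁.presheaf.stalk x')) ≠ ⊤) →
      (letI := FlatMod.moduleStalkOver h G' (q x')
       maximalIdeal (Z.presheaf.stalk (h (q x'))) •
        (⊤ : Submodule (Z.presheaf.stalk (h (q x'))) (G'.presheaf.stalk (q x'))) ≠ ⊤) →
      (letI := FlatMod.moduleStalkOver (q ≫ h)
        (CohB1.tensorMod E₁ ((Scheme.Modules.pullback q).obj G')) x'
       maximalIdeal (Z.presheaf.stalk ((q ≫ h) x')) •
        (⊤ : Submodule (Z.presheaf.stalk ((q ≫ h) x'))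
          ((CohB1.tensorMod E₁ ((Scheme.Modules.pullback q).obj G')).presheaf.stalk x')) ≠ ⊤)) ∧
    ((letI := FlatMod.moduleStalkOver (q ≫ h)
        (CohB1.tensorMod E₁ ((Scheme.Modules.pullback q).obj G')) x'
      maximalIdeal (Z.presheaf.stalk ((q ≫ h) x')) •
        (⊤ : Submodule (Z.presheaf.stalk ((q ≫ h) x'))
          ((CohB1.tensorMod E₁ ((Scheme.Modules.pullback q).obj G')).presheaf.stalk x')) ≠ ⊤) →
      (letI := FlatMod.moduleStalkOver h G' (q x')
       maximalIdeal (Z.presheaf.stalk (h (q x'))) •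
        (⊤ : Submodule (Z.presheaf.stalk (h (q x'))) (G'.presheaf.stalk (q x'))) ≠ ⊤)) := by
  -- rings
  letI algBC : Algebra (Y'.presheaf.stalk (q x')) (X'.presheaf.stalk x') :=
    (q.stalkMap x').hom.toAlgebra
  letI algAB : Algebra (Z.presheaf.stalk ((q ≫ h) x')) (Y'.presheaf.stalk (q x')) :=
    (h.stalkMap (q x')).hom.toAlgebra
  letI algAC : Algebra (Z.presheaf.stalk ((q ≫ h) x')) (X'.presheaf.stalk x') :=
    ((q ≫ h).stalkMap x').hom.toAlgebra
  haveI : IsScalarTower (Z.presheaf.stalk ((q ≫ h) x')) (Y'.presheaf.stalk (q x'))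
      (X'.presheaf.stalk x') :=
    IsScalarTower.of_algebraMap_eq (fun a => by
      have := congrArg (fun ψ => ψ.hom a) (Scheme.Hom.stalkMap_comp q h x')
      exact this)
  -- modules
  letI modBP : Module (Y'.presheaf.stalk (q x')) (E₁.presheaf.stalk x') :=
    FlatMod.moduleStalkOver q E₁ x'
  letI modAP : Module (Z.presheaf.stalk ((q ≫ h) x')) (E₁.presheaf.stalk x') :=
    FlatMod.moduleStalkOver (q ≫ h) E₁ x'
  haveI : IsScalarTower (Y'.presheaf.stalk (q x')) (X'.presheaf.stalk x')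
      (E₁.presheaf.stalk x') := IsScalarTower.of_algebraMap_smul (fun r m => rfl)
  haveI : IsScalarTower (Z.presheaf.stalk ((q ≫ h) x')) (X'.presheaf.stalk x')
      (E₁.presheaf.stalk x') := IsScalarTower.of_algebraMap_smul (fun r m => rfl)
  haveI : IsScalarTower (Z.presheaf.stalk ((q ≫ h) x')) (Y'.presheaf.stalk (q x'))
      (E₁.presheaf.stalk x') := IsScalarTower.of_algebraMap_smul (fun r m => by
      change (q.stalkMap x').hom ((h.stalkMap (q x')).hom r) • m =
        ((q ≫ h).stalkMap x').hom r • m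
      have := congrArg (fun ψ => ψ.hom r) (Scheme.Hom.stalkMap_comp q h x')
      rw [show ((q ≫ h).stalkMap x').hom r = (q.stalkMap x').hom ((h.stalkMap (q x')).hom r)
        from this])
  letI modAN : Module (Z.presheaf.stalk ((q ≫ h) x')) (G'.presheaf.stalk (q x')) :=
    FlatMod.moduleStalkOver h G' (q x')
  haveI : IsScalarTower (Z.presheaf.stalk ((q ≫ h) x')) (Y'.presheaf.stalk (q x'))
      (G'.presheaf.stalk (q x')) := IsScalarTower.of_algebraMap_smul (fun r m => rfl)
  letI modAT : Module (Z.presheaf.stalk ((q ≫ h) x'))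
      ((CohB1.tensorMod E₁ ((Scheme.Modules.pullback q).obj G')).presheaf.stalk x') :=
    FlatMod.moduleStalkOver (q ≫ h) (CohB1.tensorMod E₁ ((Scheme.Modules.pullback q).obj G')) x'
  haveI : IsScalarTower (Z.presheaf.stalk ((q ≫ h) x')) (X'.presheaf.stalk x')
      ((CohB1.tensorMod E₁ ((Scheme.Modules.pullback q).obj G')).presheaf.stalk x') :=
    IsScalarTower.of_algebraMap_smul (fun r m => rfl)
  -- the equivalences
  obtain ⟨eQ⟩ := Groth.Agent.H71.QCoh.exists_stalkPullbackEquiv q G' x'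
  let eT : (CohB1.tensorMod E₁ ((Scheme.Modules.pullback q).obj G')).presheaf.stalk x' ≃ₗ[
      X'.presheaf.stalk x'] (E₁.presheaf.stalk x') ⊗[X'.presheaf.stalk x']
        (((Scheme.Modules.pullback q).obj G').presheaf.stalk x') :=
    (Groth.Agent.H5.Stalk.Tensor.stalkTensorIso x' E₁ ((Scheme.Modules.pullback q).obj G')).toLinearEquiv
  let E : (CohB1.tensorMod E₁ ((Scheme.Modules.pullback q).obj G')).presheaf.stalk x' ≃ₗ[
      Z.presheaf.stalk ((q ≫ h) x')] (E₁.presheaf.stalk x') ⊗[Y'.presheaf.stalk (q x')]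
        (G'.presheaf.stalk (q x')) := tensorEquiv eQ eT
  refine ⟨?_, ?_, ?_, ?_⟩
  · intro hP hN
    haveI : Module.Flat (Y'.presheaf.stalk (q x')) (E₁.presheaf.stalk x') := hP
    haveI : Module.Flat (Z.presheaf.stalk ((q ≫ h) x')) (G'.presheaf.stalk (q x')) := hN
    exact flat_of_tensorEquiv E
  · intro hP hne hT
    haveI : Module.Flat (Y'.presheaf.stalk (q x')) (E₁.presheaf.stalk x') := hP
    haveI : Module.FaithfullyFlat (Y'.presheaf.stalk (q x')) (E₁.presheaf.stalk x') :=
      faithfullyFlat_of_isLocalRing hne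
    haveI : Module.Flat (Z.presheaf.stalk ((q ≫ h) x'))
      ((CohB1.tensorMod E₁ ((Scheme.Modules.pullback q).obj G')).presheaf.stalk x') := hT
    have key : @Module.Flat (Z.presheaf.stalk ((q ≫ h) x')) (G'.presheaf.stalk (q x')) _ _ modAN :=
      flat_right_of_tensorEquiv E
    exact key
  · intro hP hne hN
    haveI : Module.Flat (Y'.presheaf.stalk (q x')) (E₁.presheaf.stalk x') := hP
    haveI : Module.FaithfullyFlat (Y'.presheaf.stalk (q x')) (E₁.presheaf.stalk x') :=
      faithfullyFlat_of_isLocalRing hne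
    exact smul_top_ne_top_of_tensorEquiv E _ hN
  · intro hT
    exact smul_top_ne_top_right_of_tensorEquiv E _ hT

end Groth.Agent.H70.FDesc
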